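import Groth.Agent.Lib.GorGenusOne16.Main
import Groth.Agent.Lib.GoodBlow8.Main
import Groth.Agent.Lib.SecDeg26.Locus
import Groth.Agent.Lib.RegSecStrat20.Seq
import Groth.Agent.Lib.CurveMult.RationalPoint
import Groth.Agent.Lib.PrimeAlg2.Seminorm

/-!
# Invertible modules on genus zero curves
-/

set_option autoImplicit false
set_option linter.all false
set_option backward.isDefEq.respectTransparency false
set_option maxHeartbeats 1600000

universe u

open CategoryTheory CategoryTheory.Limits AlgebraicGeometry TopologicalSpace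

noncomputable section

namespace GrothLib.GenusZero28

variable {X : Scheme.{u}} (k : Type u) [Field k] [X.Over (Spec (CommRingCat.of k))]
  [IsProper (X ↘ Spec (CommRingCat.of k))] [IsIntegral X]

/-- The degree of the reduced point. -/
def degPt (x : X) (hx : IsClosed ({x} : Set X)) : ℕ :=
  Module.finrank k (Coh.HH X (ClSub.quotMod (Scheme.IdealSheafData.vanishingIdeal ⟨{x}, hx⟩)) 0)

theorem degPt_pos (x : X) (hx : IsClosed ({x} : Set X)) : 0 < degPt k x hx := by
  let J := Scheme.IdealSheafData.vanishingIdeal ⟨{x}, hx⟩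
  letI : J.subscheme.Over (Spec (CommRingCat.of k)) := ⟨J.subschemeι ≫ X ↘ Spec (CommRingCat.of k)⟩
  haveI : IsProper (J.subscheme ↘ Spec (CommRingCat.of k)) :=
    inferInstanceAs (IsProper (J.subschemeι ≫ X ↘ Spec (CommRingCat.of k)))
  have hmem : x ∈ Set.range J.subschemeι := by
    rw [J.range_subschemeι, Scheme.IdealSheafData.coe_support_vanishingIdeal]
    exact rfl
  haveI : Nonempty J.subscheme := ⟨hmem.choose⟩
  rw [degPt, SubCurve16.finrank_quotMod_eq k J 0]
  exact SubCurve16.finrank_H0_pos k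

variable (hdim : topologicalKrullDim X = 1)

include k hdim in
/-- The divisor of a nonzero section. -/
theorem exists_divisor {L : X.Modules} (hL : PicF.IsInvertible L) {σ : Coh.structureModule X ⟶ L} (hσ : σ ≠ 0) :
    ∃ D : X.IdealSheafData, _root_.BlowUp.IsEffCartierIdeal D ∧
      (D.support : Set X) = (CohB1.genLocus L σ : Set X)ᶜ ∧
      (Module.finrank k (Coh.HH X (ClSub.quotMod D) 0) : ℤ) = Curv2.deg k X L 1 := by
  let s : Γ(L, ⊤) := Mero.Zero.gsecOf σ ⊤
  let H := PicF2.zeroScheme L (OX.ofTop (N := L) s)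
  have hcan : SmCurveFam.IsCanSec H L s := EllGroup15.isCanSec_zeroScheme hL s
  have hη := SecDeg26.genericPoint_mem_genLocus k hL hσ
  have hloc : ∀ p : X, ∃ (T : X.affineOpens) (r : Γ(X, T.1)), p ∈ T.1 ∧ H.ideal T = Ideal.span {r} ∧
      CohB1.genLocus L σ ⊓ T.1 = X.basicOpen r := fun p => by
    obtain ⟨T, e, r, hpT, he, hr, hI⟩ := hcan p
    have hr' : Mero.Zero.gsecOf σ T.1 = r • e := by rw [← Mero.Zero.gsecOf_mres σ (le_top : T.1 ≤ ⊤)]; exact hr
    exact ⟨T, r, hpT, hI, QCohTwist9.genLocus_inf_eq σ he hr'⟩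
  have hsupp : (H.support : Set X) = (CohB1.genLocus L σ : Set X)ᶜ := by
    ext p
    obtain ⟨T, r, hpT, hI, hl⟩ := hloc p
    rw [SetLike.mem_coe, Scheme.IdealSheafData.mem_support_iff_of_mem (U := T) hpT, hI, Scheme.zeroLocus_span,
      Scheme.zeroLocus_singleton, Set.mem_compl_iff, SetLike.mem_coe, Set.mem_compl_iff, SetLike.mem_coe, ← hl]
    exact ⟨fun h h' => h ⟨h', hpT⟩, fun h h' => h h'.1⟩
  have hH : _root_.BlowUp.IsEffCartierIdeal H := fun p => by
    obtain ⟨T, r, hpT, hI, hl⟩ := hloc p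
    haveI : Nonempty T.1 := ⟨⟨p, hpT⟩⟩
    refine ⟨T, hpT, r, mem_nonZeroDivisors_of_ne_zero fun h0 => ?_, hI⟩
    have h1 : genericPoint X ∈ CohB1.genLocus L σ ⊓ T.1 := ⟨hη, ProjCoh.genericPoint_mem hpT⟩
    rw [hl, h0, Scheme.basicOpen_zero] at h1
    exact h1
  refine ⟨H, hH, hsupp, ?_⟩
  have h1 := Euler.deg_tensor_effCartier k hdim.le hH hL (EllGroup15.isInverseOf_of_isCanSec hH hcan)
    (Euler.isFinLocFreeOfRank_one' (Euler.isInvertible_structure (X := X)))
  have e0 : CohB1.tensorMod (Coh.structureModule X) L ≅ L := OX.tensorUnitLeftIso L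
  rw [Euler.deg_of_iso k e0, show Curv2.deg k X (Coh.structureModule X) 1 = 0 by simp [Curv2.deg], Nat.cast_one,
    one_mul, add_zero] at h1
  exact h1.symm

include k hdim in
/-- A point of a divisor has degree at most that of the divisor. -/
theorem degPt_le {D : X.IdealSheafData} (hD : _root_.BlowUp.IsEffCartierIdeal D) {x : X}
    (hx : IsClosed ({x} : Set X)) (hxD : x ∈ (D.support : Set X)) :
    degPt k x hx ≤ Module.finrank k (Coh.HH X (ClSub.quotMod D) 0) := by
  haveI := Euler.isNoetherian_of_proper (X := X) k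
  let J := Scheme.IdealSheafData.vanishingIdeal ⟨{x}, hx⟩
  have hDJ : D ≤ J := Scheme.IdealSheafData.le_support_iff_le_vanishingIdeal.1 (Set.singleton_subset_iff.2 hxD)
  haveI := Euler.epi_toSubscheme J
  let q := Lef.quotMap hDJ
  haveI : Epi q := by
    haveI : Epi (ClSub.toSubscheme D ≫ q) := by rw [LefEt7.toSubscheme_quotMap]; infer_instance
    exact epi_of_epi (ClSub.toSubscheme D) q
  obtain ⟨hfin, hcl⟩ := Euler.divisor_finite_closed k hdim.le hD
  have hQ : Coh.IsCoh (ClSub.quotMod D) := QCoh.pushUnit_isCoh D.subschemeι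
  have hsupp : CohB1.support (kernel q) ⊆ (D.support : Set X) :=
    (QCoh.support_subset_of_mono (kernel.ι q)).trans (by
      rw [← D.range_subschemeι]
      exact QCoh.support_pushforward_subset_range D.subschemeι _)
  let S := ShortComplex.mk (kernel.ι q) q (kernel.condition _)
  haveI : Epi S.g := inferInstanceAs (Epi q)
  have hS : S.ShortExact := { exact := ShortComplex.exact_of_f_is_kernel _ (kernelIsKernel _) }
  haveI := Euler.finiteDimensional_HH k hQ 0
  refine LinearMap.finrank_le_finrank_of_surjective (f := Cohom.hhMap k q 0) fun y => ?_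
  refine (Cohom.exact₃ (A := k) hS 0 y).1 ?_
  exact (Euler.subsingleton_HH_of_finite_support (kernel q) (hfin.subset hsupp)
    (fun z hz => hcl z (hsupp hz)) 1 le_rfl).elim _ _

variable (h1 : Subsingleton (Coh.HH X (Coh.structureModule X) 1))

include k hdim h1 in
/-- A section of an invertible module of nonnegative degree avoiding finitely many points. -/
theorem exists_section_avoiding [Infinite k] {L : X.Modules} (hL : PicF.IsInvertible L)
    (hdeg : 0 ≤ Curv2.deg k X L 1) {S : Set X} (hS : S.Finite) :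
    ∃ σ : Coh.structureModule X ⟶ L, σ ≠ 0 ∧ S ⊆ (CohB1.genLocus L σ : Set X) ∧
      ∀ x : X, x ∉ CohB1.genLocus L σ → x ∉ S ∧ IsRegularLocalRing (X.presheaf.stalk x) ∧
        ∃ hx : IsClosed ({x} : Set X), (degPt k x hx : ℤ) ≤ Curv2.deg k X L 1 := by
  haveI := Euler.isNoetherian_of_proper (X := X) k
  haveI : LocallyOfFiniteType (X ↘ Spec (CommRingCat.of k)) := inferInstance
  let R : Set X := {x | IsRegularLocalRing (X.presheaf.stalk x)}
  have hRη : genericPoint X ∈ R := PrimeAlg2.isRegular_of_generic _ (by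
    rw [irreducibleComponents_eq_singleton, Set.mem_singleton_iff]
    exact genericPoint_spec X)
  have hfin : Rᶜ.Finite := CurvePoints.finite_of_isClosed hdim.le
    (PrimeAlg2.isOpen_regular (X ↘ Spec (CommRingCat.of k))).isClosed_compl (fun h => h hRη)
  have hg : 2 * (Curv2.genus k X : ℤ) ≤ Curv2.deg k X L 1 := by
    haveI := h1
    rw [show Curv2.genus k X = 0 from Module.finrank_zero_of_subsingleton]
    simpa using hdeg
  let T : Set X := insert (genericPoint X) (S ∪ Rᶜ)
  have hgood : ∀ x : X, ∃ s : Γ(L, ⊤), RegSecStrat20.Good L x s := fun x => by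
    obtain ⟨σ, hσ⟩ := SubCurve16.exists_mem_genLocus k hdim hL hg x
    exact ⟨_, RegSecStrat20.good_of_mem_genLocus hL hσ⟩
  obtain ⟨σ, hσ⟩ := RegSecStrat20.exists_good_of_finite k (Coh.toGlobal (X ↘ Spec (CommRingCat.of k))) hL hgood
    (show T.Finite from (hS.union hfin).insert _)
  have hσ0 : σ ≠ 0 := fun h0 => by
    have hb := Snapper.stalk_bijective_of_mem_genLocus σ (hσ _ (Set.mem_insert _ _))
    haveI : Nontrivial ((Coh.structureModule X).presheaf.stalk (genericPoint X)) :=
      (HomSh.unitStalk (X := X) (genericPoint X)).symm.toEquiv.nontrivial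
    obtain ⟨v, hv⟩ := exists_ne (0 : (Coh.structureModule X).presheaf.stalk (genericPoint X))
    refine hv (hb.1 ?_)
    rw [map_zero, h0]
    obtain ⟨U, hU, a, rfl⟩ := TopCat.Presheaf.exists_germ_eq (Coh.structureModule X).presheaf v
    rw [QCoh.stalkLin_germ]
    exact map_zero ((L.presheaf.germ U _ hU).hom)
  refine ⟨σ, hσ0, fun x hx => hσ x (Or.inr (Or.inl hx)), fun x hx => ⟨fun h => hx (hσ x (Or.inr (Or.inl h))),
    not_not.1 fun h => hx (hσ x (Or.inr (Or.inr h))), ?_⟩⟩
  have hcl := CurvePoints.isClosed_singleton hdim.le (x := x) fun h => hx (hσ x (Or.inl h))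
  refine ⟨hcl, ?_⟩
  obtain ⟨D, hD, hsupp, hd⟩ := exists_divisor k hdim hL hσ0
  rw [← hd]
  exact_mod_cast degPt_le k hdim hD hcl (hsupp.ge hx)

include k hdim h1 in
/-- An invertible module of small nonnegative degree is trivial. -/
theorem nonempty_iso_of_deg_lt [Infinite k] {L : X.Modules} (hL : PicF.IsInvertible L) {d : ℕ}
    (hmin : ∀ (Q : X) (hQ : IsClosed ({Q} : Set X)), IsRegularLocalRing (X.presheaf.stalk Q) → d ≤ degPt k Q hQ)
    (hdeg : 0 ≤ Curv2.deg k X L 1) (hlt : Curv2.deg k X L 1 < (d : ℤ)) :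
    Nonempty (Coh.structureModule X ≅ L) := by
  obtain ⟨σ, -, -, hσ⟩ := exists_section_avoiding k hdim h1 hL hdeg Set.finite_empty
  haveI : IsIso σ := (OX.isIso_iff σ).2 fun x => (ConcreteCategory.isIso_iff_bijective _).2
    (Snapper.stalk_bijective_of_mem_genLocus σ (not_not.1 fun hx => by
      obtain ⟨-, hreg, hcl, hle⟩ := hσ x hx
      have := hmin x hcl hreg
      omega))
  exact ⟨asIso σ⟩

end GrothLib.GenusZero28
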